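import Groth.Agent.L11.IsoNat.BG.Nat
import Groth.Agent.L09.Gerbe.LocIso
import Groth.Agent.L24.QuotMor.Desc
import Groth.Agent.L24.Tors.FullSub

/-!
The classifying stack of a commutative group is determined by its isomorphism classes.
-/

set_option autoImplicit false
set_option backward.isDefEq.respectTransparency false
set_option backward.isDefEq.respectTransparency.types false

universe u

open CategoryTheory Category CategoryTheory.Limits AlgebraicGeometry MonoidalCategory CartesianMonoidalCategory Opposite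
open MonObj GrpObj

noncomputable section

namespace Groth.L11.IsoNat.BG

open Groth.L24.St

variable {S : Scheme.{u}} {G : Over S} [GrpObj G]

variable (G) in
/-- The trivial torsor as a point. -/
abbrev trivPt : FibCat.overCat (Over.mk (𝟙 S)) ⥤ᵇ AlgSt.BG Scheme.fppfPrecoverage G :=
  BasedFunctor.comp (AlgSt.ofOverCat (Over.mk (𝟙 S)))
    (AlgSt.quotMap Scheme.fppfPrecoverage G (AlgSt.trivAction G))

theorem exists_sieve_sec (A : AlgSt.QuotObj Scheme.fppfPrecoverage G (AlgSt.trivAction G)) :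
    ∃ R ∈ AlgSp.J S A.base, ∀ ⦃T : Over S⦄ (f : T ⟶ A.base), R f → ∃ s : T ⟶ A.P, s ≫ A.π = f := by
  obtain ⟨R₀, hR₀, hsec⟩ := A.loc
  refine ⟨(Sieve.overEquiv A.base).symm (Sieve.generate R₀), ?_, fun T f hf => ?_⟩
  · exact (GrothendieckTopology.mem_over_iff _ _).2 (((Sieve.overEquiv A.base).apply_symm_apply
      (Sieve.generate R₀)).symm ▸ Precoverage.generate_mem_toGrothendieck hR₀)
  obtain ⟨T'', k, f', hf', hkf⟩ := (Sieve.overEquiv_symm_iff (Y := A.base) (Sieve.generate R₀) f).1 hf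
  obtain ⟨s₁, hs₁⟩ := hsec f' hf'
  change s₁ ≫ A.π.left = f' at hs₁
  refine ⟨Over.homMk (k ≫ s₁) ?_, Over.OverMorphism.ext ?_⟩
  · rw [← Over.w A.π, Category.assoc, ← Category.assoc s₁, hs₁, ← Category.assoc, hkf, Over.w f]
  · show (k ≫ s₁) ≫ A.π.left = f.left
    rw [Category.assoc, hs₁, hkf]

theorem locTriv (z : (AlgSt.BG Scheme.fppfPrecoverage G).obj) :
    ∃ R ∈ AlgSp.J S ((AlgSt.BG Scheme.fppfPrecoverage G).p.obj z),
      ∀ ⦃T : Over S⦄ (f : T ⟶ (AlgSt.BG Scheme.fppfPrecoverage G).p.obj z), R f →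
        ∃ (a : (FibCat.overCat (Over.mk (𝟙 S))).obj) (g : (trivPt G).obj a ⟶ z),
          (AlgSt.BG Scheme.fppfPrecoverage G).p.IsHomLift f g := by
  obtain ⟨R, hR, hs⟩ := exists_sieve_sec z
  refine ⟨R, hR, fun T f hf => ?_⟩
  obtain ⟨s, rfl⟩ := hs f hf
  let q : (⟨T, ⟨toUnit T⟩⟩ : (AlgSt.ofSch (𝟙_ (Over S))).obj) ⟶ ⟨z.P, ⟨z.φ⟩⟩ :=
    ⟨s, congrArg ULift.up (toUnit_unique _ _)⟩
  refine ⟨Over.mk (toUnit T : T ⟶ Over.mk (𝟙 S)),
    (AlgSt.quotMap Scheme.fppfPrecoverage G (AlgSt.trivAction G)).map q ≫ Groth.L24.QuotMor.fromTriv z, ?_⟩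
  exact IsHomLift.of_fac' _ _ _ rfl rfl (by
    show s ≫ z.π = _
    simp)

/-- Right translation of the trivial torsor. -/
def transTop {T : Over S} (g : T ⟶ G) : G ⊗ T ⟶ G ⊗ T := lift (fst G T * (snd G T ≫ g)) (snd G T)

theorem transTop_comp {T : Over S} (g g' : T ⟶ G) : transTop g ≫ transTop g' = transTop (g * g') := by
  simp [transTop, comp_lift, comp_mul, _root_.mul_assoc]

theorem transTop_one {T : Over S} : transTop (1 : T ⟶ G) = 𝟙 _ := by
  simp [transTop]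

/-- Right translation as an automorphism. -/
def transHom {T : Over (Over.mk (𝟙 S))} (g : T.left ⟶ G) : (trivPt G).obj T ⟶ (trivPt G).obj T where
  base := 𝟙 T.left
  top := transTop g
  eqv := by
    show (AlgSt.leftMul G T.left).act ≫ transTop g = (G ◁ transTop g) ≫ (AlgSt.leftMul G T.left).act
    apply CartesianMonoidalCategory.hom_ext
    · simp [transTop, AlgSt.leftMul, comp_lift, comp_mul, _root_.mul_assoc]
    · simp [transTop, AlgSt.leftMul, comp_lift]
  cart := by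
    show IsPullback (transTop g) (snd G T.left) (snd G T.left) (𝟙 T.left)
    have : IsIso (transTop g) := ⟨transTop g⁻¹, by rw [transTop_comp, mul_inv_cancel, transTop_one],
      by rw [transTop_comp, inv_mul_cancel, transTop_one]⟩
    exact IsPullback.of_horiz_isIso ⟨by simp [transTop]⟩
  wφ := toUnit_unique _ _

variable [IsCommMonObj G]

/-- Automorphisms of the trivial torsor by points of the group. -/
def transAut (T : Over (Over.mk (𝟙 S))) : (T.left ⟶ G) →* Gerb.AutO ((trivPt G).obj T) where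
  toFun g :=
    { hom := ⟨transHom g, IsHomLift.of_fac' _ _ _ rfl rfl (show 𝟙 T.left = 𝟙 T.left ≫ 𝟙 T.left ≫ 𝟙 T.left by simp)⟩
      inv := ⟨transHom g⁻¹, IsHomLift.of_fac' _ _ _ rfl rfl (show 𝟙 T.left = 𝟙 T.left ≫ 𝟙 T.left ≫ 𝟙 T.left by simp)⟩
      hom_inv_id := Functor.Fiber.hom_ext (AlgSt.QuotObj.hom_ext (Category.id_comp _)
        (show transTop g ≫ transTop g⁻¹ = 𝟙 _ by rw [transTop_comp, mul_inv_cancel, transTop_one]))
      inv_hom_id := Functor.Fiber.hom_ext (AlgSt.QuotObj.hom_ext (Category.id_comp _)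
        (show transTop g⁻¹ ≫ transTop g = 𝟙 _ by rw [transTop_comp, inv_mul_cancel, transTop_one])) }
  map_one' := Aut.ext (Functor.Fiber.hom_ext (AlgSt.QuotObj.hom_ext rfl transTop_one))
  map_mul' g g' := Aut.ext (Functor.Fiber.hom_ext (AlgSt.QuotObj.hom_ext (Category.id_comp _).symm
    (show transTop (g * g') = transTop g' ≫ transTop g by rw [transTop_comp, mul_comm])))

theorem transAut_bijective (T : Over (Over.mk (𝟙 S))) : Function.Bijective (transAut (G := G) T) := by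
  let σ : T.left ⟶ G ⊗ T.left := lift 1 (𝟙 _)
  refine ⟨fun g g' h => ?_, fun α => ?_⟩
  · have := congrArg (fun t => σ ≫ (t.hom.1).top ≫ fst G T.left) h
    change σ ≫ transTop g ≫ fst G T.left = σ ≫ transTop g' ≫ fst G T.left at this
    simpa [transTop, σ, comp_mul] using this
  · let top : G ⊗ T.left ⟶ G ⊗ T.left := α.hom.1.top
    have hb : (α.hom.1).base = 𝟙 T.left := by
      have := @IsHomLift.fac' _ _ _ _ (AlgSt.BG Scheme.fppfPrecoverage G).p _ _ _ _ (𝟙 _) α.hom.1 α.hom.2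
      simp at this
      exact this
    have hsnd : top ≫ snd G T.left = snd G T.left := by
      have := α.hom.1.cart.w
      rw [hb] at this
      exact this.trans (Category.comp_id _)
    have heq : (AlgSt.leftMul G T.left).act ≫ top = (G ◁ top) ≫ (AlgSt.leftMul G T.left).act := α.hom.1.eqv
    refine ⟨σ ≫ top ≫ fst G T.left, Aut.ext (Functor.Fiber.hom_ext (AlgSt.QuotObj.hom_ext hb.symm ?_))⟩
    show transTop _ = top
    have hid : (lift (fst G T.left) (snd G T.left ≫ σ)) ≫ (AlgSt.leftMul G T.left).act = 𝟙 _ := by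
      apply CartesianMonoidalCategory.hom_ext <;> simp [AlgSt.leftMul, σ, comp_mul]
    have hw : lift (fst G T.left) (snd G T.left ≫ σ) ≫ (G ◁ top) =
        lift (fst G T.left) (snd G T.left ≫ σ ≫ top) := by
      apply CartesianMonoidalCategory.hom_ext <;> simp
    conv_rhs => rw [← Category.id_comp top, ← hid, Category.assoc, heq, ← Category.assoc, hw]
    apply CartesianMonoidalCategory.hom_ext
    · simp [transTop, AlgSt.leftMul, comp_mul]
    · simp [transTop, AlgSt.leftMul, hsnd, σ]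

/-- The identification of a point over the base. -/
def baseIso (T : Over (Over.mk (𝟙 S))) : T.left ≅ (Over.iteratedSliceForward (Over.mk (𝟙 S))).obj T :=
  Over.isoMk (Iso.refl _) (by
    show 𝟙 _ ≫ T.hom.left = T.left.hom
    rw [Category.id_comp]
    exact (Category.comp_id _).symm.trans (Over.w T.hom))

/-- Points of the group. -/
def ptsHom (T : Over (Over.mk (𝟙 S))) :
    (Gerb.ptsGrp (Over.mk (𝟙 S)) G).obj (op T) →* (T.left ⟶ G) where
  toFun a := (baseIso T).hom ≫ (a : (Over.iteratedSliceForward (Over.mk (𝟙 S))).obj T ⟶ G)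
  map_one' := comp_one _
  map_mul' a b := comp_mul _ _ _

theorem ptsHom_bijective (T : Over (Over.mk (𝟙 S))) : Function.Bijective (ptsHom (G := G) T) :=
  ⟨fun _ _ h => (cancel_epi (baseIso T).hom).1 h, fun g => ⟨(baseIso T).inv ≫ g, (baseIso T).hom_inv_id_assoc g⟩⟩

variable (G) in
/-- The automorphisms of the trivial torsor. -/
def trivRep : Gerb.AutRep (trivPt G) (Gerb.ptsGrp (Over.mk (𝟙 S)) G) where
  iso T := (MulEquiv.ofBijective (ptsHom T) (ptsHom_bijective T)).trans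
    (MulEquiv.ofBijective (transAut T) (transAut_bijective T))
  natural {T' T} m a := by
    refine AlgSt.QuotObj.hom_ext ?_ ?_
    · show 𝟙 _ ≫ m.left = m.left ≫ 𝟙 _
      rw [Category.id_comp, Category.comp_id]
    · show transTop (ptsHom T' _) ≫ (G ◁ m.left) = (G ◁ m.left) ≫ transTop (ptsHom T a)
      have e : ptsHom T' ((Gerb.ptsGrp (Over.mk (𝟙 S)) G).map m.op a) = m.left ≫ ptsHom T a := by
        apply Over.OverMorphism.ext
        show 𝟙 _ ≫ m.left.left ≫ _ = m.left.left ≫ 𝟙 _ ≫ _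
        rw [Category.id_comp, Category.id_comp]
      rw [e]
      apply CartesianMonoidalCategory.hom_ext
      · simp [transTop, comp_mul]
      · simp [transTop]

omit [GrpObj G] [IsCommMonObj G] in
theorem loc_transfer {𝒳 𝒴 : AlgSt.Cat S} (φ : IsoNat.FIso 𝒳 𝒴) (h𝒳 : FibCat.IsFibGrpd 𝒳.p)
    (h𝒴 : FibCat.IsFibGrpd 𝒴.p) {U : Over S} {x : FibCat.overCat U ⥤ᵇ 𝒳} {y : FibCat.overCat U ⥤ᵇ 𝒴}
    (h₀ : φ.toEquiv U (IsoNat.objCls x) = IsoNat.objCls y)
    (hloc : ∀ z : 𝒳.obj, ∃ R ∈ AlgSp.J S (𝒳.p.obj z), ∀ ⦃T : Over S⦄ (f : T ⟶ 𝒳.p.obj z), R f →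
      ∃ (a : (FibCat.overCat U).obj) (g : x.obj a ⟶ z), 𝒳.p.IsHomLift f g)
    {T₀ : Over S} (ξ : 𝒴.p.Fiber T₀) : ∃ R ∈ AlgSp.J S T₀, ∀ ⦃T : Over S⦄ (f : T ⟶ T₀), R f →
      ∃ (a : (FibCat.overCat U).obj) (g : y.obj a ⟶ ξ.1), 𝒴.p.IsHomLift f g := by
  obtain ⟨A, hA⟩ := cls_surjective ((φ.toEquiv T₀).symm (IsoNat.cls ξ))
  have hA' : φ.toEquiv _ (IsoNat.cls A) = IsoNat.cls ξ := by rw [hA, Equiv.apply_symm_apply]
  obtain ⟨A, hAξ⟩ := A
  subst hAξ
  obtain ⟨R, hR, hs⟩ := hloc A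
  refine ⟨R, hR, fun T f hf => ?_⟩
  obtain ⟨a, g, hg⟩ := hs f hf
  obtain rfl : a.left = T := (x.w_obj a).symm.trans (IsHomLift.domain_eq 𝒳.p f g)
  obtain ⟨b, hb⟩ := fIso_exists_lift φ h𝒴 f (x' := atFib x a.hom) (x := ⟨A, rfl⟩) g (y' := atFib y a.hom) (y := ξ)
    (fIso_atFib φ h𝒴 x y h₀ a.hom) hA'
  exact ⟨a, b, hb⟩

theorem main [IsAffineHom G.hom] {𝒴 : AlgSt.Cat S}
    (hB : Good (AlgSt.BG Scheme.fppfPrecoverage G)) (hY : Good 𝒴)
    (φ : IsoNat.FIso (AlgSt.BG Scheme.fppfPrecoverage G) 𝒴) :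
    ∃ e : AlgSt.BG Scheme.fppfPrecoverage G ⥤ᵇ 𝒴, FibCat.IsEquivOver e := by
  obtain ⟨y, hy⟩ := exists_chart hY.st.1 (φ.toEquiv _ (IsoNat.objCls (trivPt G)))
  obtain ⟨r⟩ := exists_autRep hB hY φ hy.symm
    (fun T (a b : (Over.iteratedSliceForward (Over.mk (𝟙 S))).obj T ⟶ G) => mul_comm a b) (trivRep G)
  have hall : ∀ ξ : 𝒴.obj, Groth.L09.Gerbe.LocIso.locProp y ξ := fun ξ =>
    loc_transfer φ hB.st.1 hY.st.1 hy.symm locTriv (⟨ξ, rfl⟩ : 𝒴.p.Fiber (𝒴.p.obj ξ))
  obtain ⟨c, hc, -⟩ := Groth.L09.Gerbe.LocIso.exists_BG_equiv hY.st r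
  exact ⟨_, isEquivOver_comp hc (Groth.L24.Tors.isEquivOver_subIncl hall)⟩

end Groth.L11.IsoNat.BG
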