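import Groth.Agent.L11.IsoNat.Base
import Groth.Agent.L24.St.Yoneda
import Groth.Prelude.Def_StGerb2

/-!
Natural transfer of commutative automorphism groups along an isomorphism of presheaves of isomorphism classes.
-/

set_option autoImplicit false
set_option backward.isDefEq.respectTransparency false
set_option backward.isDefEq.respectTransparency.types false

universe u

open CategoryTheory CategoryTheory.Limits AlgebraicGeometry

noncomputable section

namespace Groth.L11.IsoNat.BG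

open Groth.L24.St

variable {S : Scheme.{u}} {𝒳 𝒴 : AlgSt.Cat S}

/-- Conjugation of automorphisms. -/
abbrev conj {T : Over S} {G H : FibCat.overCat T ⥤ᵇ 𝒳} (i : G ≅ H) (g : Aut G) : Aut H := Iso.conjAut i g

theorem formCls_conj (h : Stk.IsStack (AlgSp.J S) 𝒳) {T : Over S} {n : ℕ} {G H : FibCat.overCat T ⥤ᵇ 𝒳} (i : G ≅ H)
    (g : Fin n → Aut G) : formCls H h (fun j => conj i (g j)) = formCls G h g := by
  obtain ⟨γ, hγ⟩ := (exists_isForm G h g).choose_spec
  let W := Groth.L24.St.whiskerL (AlgSt.overMap (Theta.proj T (n := n))) i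
  refine (objCls_of_isForm H h (g := fun j => conj i (g j)) (H := (exists_isForm G h g).choose)
    ⟨fun b => (γ b).comp (Fam.ofNat _ W.hom), fun j k hk => ?_⟩).symm.trans rfl
  let p := (Over.map (Theta.proj T)).obj k
  show ((γ true).app k _ ≫ i.hom.toNatTrans.app p) ≫ (i.inv.toNatTrans.app p ≫ (g j).hom.toNatTrans.app p ≫
      i.hom.toNatTrans.app p) = (γ false).app k _ ≫ i.hom.toNatTrans.app p
  have e : i.hom.toNatTrans.app p ≫ i.inv.toNatTrans.app p = 𝟙 _ :=
    congrArg (fun t => t.toNatTrans.app p) i.hom_inv_id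
  rw [← hγ j k hk, Category.assoc, ← Category.assoc (i.hom.toNatTrans.app p), e, Category.id_comp, Category.assoc]

/-- Matched pairs. -/
def AutCorr (φ : IsoNat.FIso 𝒳 𝒴) (hX : Good 𝒳) (hY : Good 𝒴) {T : Over S} (G : FibCat.overCat T ⥤ᵇ 𝒳)
    (G' : FibCat.overCat T ⥤ᵇ 𝒴) (g : Aut G) (g' : Aut G') : Prop :=
  Corr φ hX hY G G' ![1, g] ![1, g']

variable {φ : IsoNat.FIso 𝒳 𝒴} {hX : Good 𝒳} {hY : Good 𝒴} {T : Over S} {G : FibCat.overCat T ⥤ᵇ 𝒳}
  {G' : FibCat.overCat T ⥤ᵇ 𝒴}

theorem exists_autCorr (h₀ : φ.toEquiv T (IsoNat.objCls G) = IsoNat.objCls G')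
    (hc : ∀ a b : Aut G', a * b = b * a) (g : Aut G) : ∃ g', AutCorr φ hX hY G G' g g' := by
  obtain ⟨s, hs⟩ := exists_corr (hX := hX) (hY := hY) h₀ ![1, g]
  refine ⟨(s 0)⁻¹ * s 1, (hs : φ.toEquiv _ _ = _).trans ?_⟩
  refine (formCls_eq_iff G' hY.st hY.diag _ _).2 (rel_of_ratio hc 0 fun j => ?_)
  fin_cases j <;> simp

theorem AutCorr.eq (hc : ∀ a b : Aut G', a * b = b * a) {g : Aut G} {g' k' : Aut G'}
    (h : AutCorr φ hX hY G G' g g') (k : AutCorr φ hX hY G G' g k') : g' = k' := by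
  have := rel_comm hc (0 : Fin 2) 1 ((Corr.rel h k).1 ⟨1, 1, fun i => by rw [mul_one, one_mul]⟩)
  simpa using this.symm

theorem exists_transfer (h₀ : φ.toEquiv T (IsoNat.objCls G) = IsoNat.objCls G')
    (hc : ∀ a b : Aut G, a * b = b * a) :
    ∃ F : Aut G ≃* Aut G', ∀ g, AutCorr φ hX hY G G' g (F g) := by
  have hc' : ∀ a b : Aut G', a * b = b * a := comm_transfer h₀ hX hY hc
  choose F hF using fun g : Aut G => exists_autCorr (hX := hX) (hY := hY) h₀ hc' g
  refine ⟨MulEquiv.ofBijective (MonoidHom.mk' F fun g k => ?_) ⟨fun g k e => ?_, fun r => ?_⟩, hF⟩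
  · obtain ⟨t', ht⟩ := exists_corr (hX := hX) (hY := hY) h₀ ![1, g, g * k]
    have pairCorr : ∀ (i j : Fin 3) (h : i ≠ j) (x : Aut G), (![1, g, g * k] i)⁻¹ * ![1, g, g * k] j = x →
        F x = (t' i)⁻¹ * t' j := fun i j h x hx => by
      refine AutCorr.eq hc' (hF x) ?_
      have h1 := ht.comp (pair i j h)
      show φ.toEquiv _ _ = _
      rw [(formCls_eq_iff G hX.st hX.diag ![1, x] _).2 (rel_of_ratio hc 0
        (g := ![1, x]) (g' := ![1, g, g * k] ∘ pair i j h) fun m => by
          fin_cases m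
          · simp
          · simpa [pair] using hx), h1]
      exact (formCls_eq_iff G' hY.st hY.diag _ _).2 (rel_of_ratio hc' 0 fun m => by
        fin_cases m <;> simp [pair])
    rw [pairCorr 0 1 (by decide) g (by simp), pairCorr 0 2 (by decide) (g * k) (by simp),
      pairCorr 1 2 (by decide) k (by simp), mul_assoc, mul_inv_cancel_left]
  · have hg : φ.toEquiv _ (formCls G hX.st ![1, g]) = φ.toEquiv _ (formCls G hX.st ![1, k]) := by
      have e' : F g = F k := e
      rw [(hF g : φ.toEquiv _ _ = _), (hF k : φ.toEquiv _ _ = _), e']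
    have := rel_comm hc (0 : Fin 2) 1 ((formCls_eq_iff G hX.st hX.diag _ _).1 ((φ.toEquiv _).injective hg))
    simpa using this.symm
  · obtain ⟨s, hs⟩ := exists_corr_inv (hX := hX) (hY := hY) h₀ ![1, r]
    refine ⟨(s 0)⁻¹ * s 1, AutCorr.eq hc' (hF _) ?_⟩
    show φ.toEquiv _ _ = _
    rw [(formCls_eq_iff G hX.st hX.diag ![1, (s 0)⁻¹ * s 1] s).2 (rel_of_ratio hc 0 fun m => by
      fin_cases m <;> simp), hs]

theorem AutCorr.base {T' : Over S} (f : T' ⟶ T) {g : Aut G} {g' : Aut G'} (h : AutCorr φ hX hY G G' g g') :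
    AutCorr φ hX hY (BasedFunctor.comp (AlgSt.overMap f) G) (BasedFunctor.comp (AlgSt.overMap f) G')
      (resAut f g) (resAut f g') := by
  have e : ∀ {𝒵 : AlgSt.Cat S} (K : FibCat.overCat T ⥤ᵇ 𝒵) (g : Aut K),
      (fun i => resAut f (![1, g] i)) = ![1, resAut f g] := fun K g => by
    funext i; fin_cases i
    · exact resAut_one f K
    · rfl
  show φ.toEquiv _ _ = _
  rw [← e, ← e, ← pullC_formCls_base f hX.st, ← pullC_formCls_base f hY.st, fIso_pullC φ hX.st.1 hY.st.1, h]

theorem AutCorr.iso {H : FibCat.overCat T ⥤ᵇ 𝒳} {H' : FibCat.overCat T ⥤ᵇ 𝒴} (i : G ≅ H) (i' : G' ≅ H')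
    {g : Aut G} {g' : Aut G'} (h : AutCorr φ hX hY G G' g g') :
    AutCorr φ hX hY H H' (conj i g) (conj i' g') := by
  have e : ∀ {𝒵 : AlgSt.Cat S} {K L : FibCat.overCat T ⥤ᵇ 𝒵} (j : K ≅ L) (g : Aut K),
      (fun m => conj j (![1, g] m)) = ![1, conj j g] := fun j g => by
    funext m; fin_cases m
    · exact map_one (Iso.conjAut j)
    · rfl
  show φ.toEquiv _ _ = _
  rw [← e, ← e, formCls_conj hX.st, formCls_conj hY.st, h]

/-! ### Values at the identity -/

section Pointed

variable {U : Over S} (x : FibCat.overCat U ⥤ᵇ 𝒳)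

/-- The chart restricted to an object of the slice. -/
abbrev at' (T : Over U) : FibCat.overCat T.left ⥤ᵇ 𝒳 := BasedFunctor.comp (AlgSt.overMap T.hom) x

/-- The canonical identification of the slice object. -/
def idIso (T : Over U) : (Over.map T.hom).obj (Over.mk (𝟙 T.left)) ≅ T := Over.isoMk (Iso.refl _) (by simp)

/-- The automorphism of the object over an arrow given by one of the chart over it. -/
def val (T : Over U) (g : Aut (at' x T)) : x.obj T ⟶ x.obj T :=
  x.map (idIso T).inv ≫ g.hom.toNatTrans.app (Over.mk (𝟙 T.left)) ≫ x.map (idIso T).hom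

theorem val_overId (T : Over U) (g : Aut (at' x T)) : OverId (val x T g) := by
  have h1 : OverId (x.map (idIso T).hom) := OverId.map x (OverId.of_eq (𝒳 := FibCat.overCat U) rfl rfl)
  have h2 : OverId (x.map (idIso T).inv) := OverId.map x (OverId.of_eq (𝒳 := FibCat.overCat U) rfl rfl)
  exact h2.comp ((overId_app (F := at' x T) g.hom _).comp h1)

theorem val_one (T : Over U) : val x T 1 = 𝟙 _ := by
  show x.map _ ≫ 𝟙 _ ≫ x.map _ = _
  rw [Category.id_comp, ← Functor.map_comp, Iso.inv_hom_id, CategoryTheory.Functor.map_id]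

theorem val_mul (T : Over U) (g k : Aut (at' x T)) : val x T (g * k) = val x T k ≫ val x T g := by
  show x.map _ ≫ (k.hom.toNatTrans.app _ ≫ g.hom.toNatTrans.app _) ≫ x.map _ =
    (x.map _ ≫ k.hom.toNatTrans.app _ ≫ x.map _) ≫ (x.map _ ≫ g.hom.toNatTrans.app _ ≫ x.map _)
  have e : x.map (idIso T).hom ≫ x.map (idIso T).inv = 𝟙 _ := by
    rw [← Functor.map_comp, Iso.hom_inv_id, CategoryTheory.Functor.map_id]
  simp only [Category.assoc]
  rw [← Category.assoc (x.map (idIso T).hom), e]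
  simp

/-- The automorphism in the fibre. -/
def valO (T : Over U) (g : Aut (at' x T)) : Gerb.AutO (x.obj T) where
  hom := ⟨val x T g, val_overId x T g⟩
  inv := ⟨val x T g⁻¹, val_overId x T g⁻¹⟩
  hom_inv_id := Functor.Fiber.hom_ext (by
    show val x T g ≫ val x T g⁻¹ = 𝟙 _
    rw [← val_mul, inv_mul_cancel, val_one])
  inv_hom_id := Functor.Fiber.hom_ext (by
    show val x T g⁻¹ ≫ val x T g = 𝟙 _
    rw [← val_mul, mul_inv_cancel, val_one])

theorem valO_mul (T : Over U) (g k : Aut (at' x T)) : valO x T (g * k) = valO x T g * valO x T k :=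
  Aut.ext (Functor.Fiber.hom_ext (val_mul x T g k))

variable (h𝒳 : FibCat.IsFibGrpd 𝒳.p)
include h𝒳

theorem valO_bijective (T : Over U) : Function.Bijective (valO x T) := by
  refine ⟨fun g k e => aut_ext fun m => ?_, fun α => ?_⟩
  · have e' : val x T g = val x T k := congrArg (fun t => t.hom.1) e
    have e0 : g.hom.toNatTrans.app (Over.mk (𝟙 T.left)) = k.hom.toNatTrans.app (Over.mk (𝟙 T.left)) := by
      have e1 := (cancel_epi (x.toFunctor.mapIso (idIso T).symm).hom).1 e'
      exact (cancel_mono (x.toFunctor.mapIso (idIso T)).hom).1 e1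
    let n : m ⟶ Over.mk (𝟙 T.left) := Over.homMk m.hom (Category.comp_id _)
    refine lift_ext' h𝒳 (at' x T) n (appLift g.hom m) (appLift k.hom m) ?_
    rw [← g.hom.toNatTrans.naturality n, ← k.hom.toNatTrans.naturality n]
    exact congrArg (_ ≫ ·) e0
  · let i := x.toFunctor.mapIso (idIso T)
    have hi : OverId i.hom := OverId.map x (OverId.of_eq (𝒳 := FibCat.overCat U) rfl rfl)
    let α' : x.obj T ≅ x.obj T := Functor.Fiber.fiberInclusion.mapIso α
    obtain ⟨g, hg⟩ := exists_iso_of_evalId h𝒳 (G := at' x T) (H := at' x T) (i ≪≫ α' ≪≫ i.symm)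
      (hi.comp ((overId_of_lift α.hom.2).comp (OverId.inv (i := i) hi)))
    refine ⟨g, Aut.ext (Functor.Fiber.hom_ext ?_)⟩
    show x.map _ ≫ g.hom.toNatTrans.app _ ≫ x.map _ = α.hom.1
    rw [hg]
    show i.inv ≫ (i.hom ≫ α'.hom ≫ i.inv) ≫ i.hom = α'.hom
    simp

omit h𝒳

/-- Composable restrictions of a chart. -/
def resIso {T' T : Over U} (m : T' ⟶ T) : BasedFunctor.comp (AlgSt.overMap m.left) (at' x T) ≅ at' x T' :=
  mkIso2 (fun k => x.toFunctor.mapIso (mapMapIso m.left T.hom T'.hom (Over.w m) k))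
    (fun k l r => by
      refine (x.toFunctor.map_comp _ _).symm.trans (Eq.trans ?_ (x.toFunctor.map_comp _ _))
      exact congrArg (fun t => x.map t) (mapMapIso_nat _ _ _ (Over.w m) r))
    (fun k => OverId.map x (OverId.of_eq (𝒳 := FibCat.overCat U) rfl rfl))

theorem val_natural {T' T : Over U} (m : T' ⟶ T) (g : Aut (at' x T)) :
    val x T' (conj (resIso x m) (resAut m.left g)) ≫ x.map m = x.map m ≫ val x T g := by
  let k₀ : Over T.left := (Over.map m.left).obj (Over.mk (𝟙 T'.left))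
  let n : k₀ ⟶ Over.mk (𝟙 T.left) := Over.homMk m.left (by simp [k₀])
  have hn : x.map ((Over.map T.hom).map n) ≫ g.hom.toNatTrans.app (Over.mk (𝟙 T.left)) =
      g.hom.toNatTrans.app k₀ ≫ x.map ((Over.map T.hom).map n) := g.hom.toNatTrans.naturality n
  let μ := mapMapIso m.left T.hom T'.hom (Over.w m) (Over.mk (𝟙 T'.left))
  show (x.map (idIso T').inv ≫ (x.map μ.inv ≫ g.hom.toNatTrans.app k₀ ≫ x.map μ.hom) ≫ x.map (idIso T').hom) ≫ x.map m =
    x.map m ≫ x.map (idIso T).inv ≫ g.hom.toNatTrans.app _ ≫ x.map (idIso T).hom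
  have e1 : μ.hom ≫ (idIso T').hom ≫ m = (Over.map T.hom).map n ≫ (idIso T).hom := by
    apply Over.OverMorphism.ext; simp [μ, n, mapMapIso, idIso]
  have e2 : (idIso T').inv ≫ μ.inv ≫ (Over.map T.hom).map n = m ≫ (idIso T).inv := by
    apply Over.OverMorphism.ext; simp [μ, n, mapMapIso, idIso]
  calc _ = x.map (idIso T').inv ≫ x.map μ.inv ≫ g.hom.toNatTrans.app k₀ ≫
        (x.map μ.hom ≫ x.map (idIso T').hom ≫ x.map m) := by simp only [Category.assoc]
    _ = x.map (idIso T').inv ≫ x.map μ.inv ≫ g.hom.toNatTrans.app k₀ ≫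
        (x.map ((Over.map T.hom).map n) ≫ x.map (idIso T).hom) := by
      rw [← Functor.map_comp, ← Functor.map_comp, e1, Functor.map_comp]
    _ = x.map (idIso T').inv ≫ x.map μ.inv ≫ (x.map ((Over.map T.hom).map n) ≫
        g.hom.toNatTrans.app (Over.mk (𝟙 T.left))) ≫ x.map (idIso T).hom := by
      rw [hn]; simp only [Category.assoc]
    _ = (x.map (idIso T').inv ≫ x.map μ.inv ≫ x.map ((Over.map T.hom).map n)) ≫
        g.hom.toNatTrans.app (Over.mk (𝟙 T.left)) ≫ x.map (idIso T).hom := by simp only [Category.assoc]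
    _ = _ := by
      rw [← Functor.map_comp, ← Functor.map_comp, e2, Functor.map_comp]
      exact Category.assoc _ _ _

end Pointed

variable {U : Over S} {x : FibCat.overCat U ⥤ᵇ 𝒳} {y : FibCat.overCat U ⥤ᵇ 𝒴}

/-- A representation of commutative automorphism groups is transported along the isomorphism of classes. -/
theorem exists_autRep (hX : Good 𝒳) (hY : Good 𝒴) (φ : IsoNat.FIso 𝒳 𝒴)
    (h₀ : φ.toEquiv U (IsoNat.objCls x) = IsoNat.objCls y) {A : (Over U)ᵒᵖ ⥤ GrpCat.{u}}
    (hA : ∀ (T : Over U) (a b : A.obj (Opposite.op T)), a * b = b * a) (r : Gerb.AutRep x A) :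
    Nonempty (Gerb.AutRep y A) := by
  let Ex : ∀ T : Over U, Aut (at' x T) ≃* Gerb.AutO (x.obj T) := fun T =>
    MulEquiv.ofBijective (MonoidHom.mk' (valO x T) (valO_mul x T)) (valO_bijective x hX.st.1 T)
  let Ey : ∀ T : Over U, Aut (at' y T) ≃* Gerb.AutO (y.obj T) := fun T =>
    MulEquiv.ofBijective (MonoidHom.mk' (valO y T) (valO_mul y T)) (valO_bijective y hY.st.1 T)
  let J : ∀ T : Over U, A.obj (Opposite.op T) ≃* Aut (at' x T) := fun T => (r.iso T).trans (Ex T).symm
  have hcls : ∀ T : Over U, φ.toEquiv T.left (IsoNat.objCls (at' x T)) = IsoNat.objCls (at' y T) := fun T => by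
    rw [← pullC_objCls hX.st.1, ← pullC_objCls hY.st.1, fIso_pullC φ hX.st.1 hY.st.1, h₀]
  have hcx : ∀ T : Over U, ∀ a b : Aut (at' x T), a * b = b * a := fun T a b =>
    (J T).symm.injective (by rw [map_mul, map_mul, hA])
  choose F hF using fun T => exists_transfer (hX := hX) (hY := hY) (hcls T) (hcx T)
  refine ⟨⟨fun T => ((J T).trans (F T)).trans (Ey T), fun {T' T} m a => ?_⟩⟩
  have hJ : J T' (A.map m.op a) = conj (resIso x m) (resAut m.left (J T a)) := by
    have hEJ : ∀ (T : Over U) (a : A.obj (Opposite.op T)), valO x T (J T a) = r.iso T a := fun T a =>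
      (Ex T).apply_symm_apply (r.iso T a)
    refine (valO_bijective x hX.st.1 T').1 ?_
    rw [hEJ]
    apply Aut.ext
    apply Functor.Fiber.hom_ext
    show (r.iso T' (A.map m.op a)).hom.1 = val x T' _
    have k1 := r.natural m a
    have k2 := val_natural x m (J T a)
    rw [show val x T (J T a) = (r.iso T a).hom.1 from congrArg (fun t => t.hom.1) (hEJ T a)] at k2
    have hl : 𝒳.p.IsHomLift m.left (x.map m) := lift_map x m
    have := L09.Fib.stronglyCartesian_of_isFibGrpd _ hX.st.1 m.left (x.map m)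
    have l1 : 𝒳.p.IsHomLift (𝟙 T'.left) (r.iso T' (A.map m.op a)).hom.1 :=
      (overId_of_lift (r.iso T' (A.map m.op a)).hom.2).lift (x.w_obj T')
    have l2 : 𝒳.p.IsHomLift (𝟙 T'.left) (val x T' (conj (resIso x m) (resAut m.left (J T a)))) :=
      (val_overId x T' _).lift (x.w_obj T')
    exact Functor.IsStronglyCartesian.ext 𝒳.p m.left (x.map m) (𝟙 T'.left) (k1.trans k2.symm)
  have hF' : F T' (J T' (A.map m.op a)) = conj (resIso y m) (resAut m.left (F T (J T a))) := by
    rw [hJ]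
    refine AutCorr.eq (comm_transfer (hcls T') hX hY (hcx T')) (hF T' _) ?_
    exact ((hF T (J T a)).base m.left).iso (resIso x m) (resIso y m)
  show val y T' (F T' (J T' (A.map m.op a))) ≫ y.map m = y.map m ≫ val y T (F T (J T a))
  rw [hF']
  exact val_natural y m _

end Groth.L11.IsoNat.BG
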